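import Mathlib

/-!
# The (2,3,5) presentation of the alternating group of degree 5
-/

set_option autoImplicit false

namespace CfsgLib.TwoThreeFive

/-- The coset table of `⟨x, y : x³, y⁵, (xy)²⟩` over `⟨y⟩`. -/
theorem table {Q : Type*} (X Y : Q → Q) (hX : ∀ q, X (X (X q)) = q) (hY : ∀ q, Y (Y (Y (Y (Y q)))) = q)
    (hXY : ∀ q, X (Y (X (Y q))) = q) (q0 q1 q2 q3 q4 q5 q6 q7 q8 q9 q10 q11 : Q) (h0 : Y q0 = q0)
    (e1 : q1 = X q0) (e2 : q2 = X q1) (e3 : q3 = Y q2) (e4 : q4 = X q3) (e5 : q5 = Y q3) (e6 : q6 = X q4)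
    (e7 : q7 = X q5) (e8 : q8 = Y q6) (e9 : q9 = Y q8) (e10 : q10 = X q9) (e11 : q11 = X q10) :
    (X q2 = q0 ∧ X q6 = q3 ∧ X q7 = q8 ∧ X q8 = q5 ∧ X q11 = q9) ∧
    (Y q1 = q2 ∧ Y q4 = q1 ∧ Y q5 = q4 ∧ Y q7 = q6 ∧ Y q9 = q10 ∧ Y q10 = q7 ∧ Y q11 = q11) := by
  have := hX q0; have := hX q1; have := hX q3; have := hX q5; have := hX q9; have := hX q7; have := hX q8
  have := hY q0; have := hY q1; have := hY q2; have := hY q6; have := hY q11; have := hY q5; have := hY q4
  have := hXY q0; have := hXY q1; have := hXY q2; have := hXY q3; have := hXY q4; have := hXY q5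
  have := hXY q6; have := hXY q7; have := hXY q8; have := hXY q9; have := hXY q10; have := hXY q11
  grind

/-- The relations of the presentation. -/
def rels : Set (FreeGroup (Fin 2)) :=
  {FreeGroup.of (0 : Fin 2) ^ 3, FreeGroup.of (1 : Fin 2) ^ 5, (FreeGroup.of (0 : Fin 2) * FreeGroup.of 1) ^ 2}

/-- A group generated by `x, y` with `x³ = y⁵ = (xy)² = 1` is finite of order at most 60. -/
theorem finite_card_le {G : Type*} [Group G] (x y : G) (hx : x ^ 3 = 1) (hy : y ^ 5 = 1)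
    (hxy : (x * y) ^ 2 = 1) (hgen : Subgroup.closure {x, y} = ⊤) : Finite G ∧ Nat.card G ≤ 60 := by
  classical
  set C := Subgroup.zpowers y
  have hX : ∀ q : G ⧸ C, x • x • x • q = q := fun q => by
    rw [smul_smul, smul_smul, show x * x * x = 1 by rw [← pow_three']; exact hx, one_smul]
  have hY : ∀ q : G ⧸ C, y • y • y • y • y • q = q := fun q => by
    simp only [smul_smul]
    rw [show y * (y * (y * (y * y))) = 1 by rw [← hy]; simp [pow_succ, mul_assoc], one_smul]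
  have hXY : ∀ q : G ⧸ C, x • y • x • y • q = q := fun q => by
    simp only [smul_smul]
    rw [show x * (y * (x * y)) = 1 by rw [← hxy]; simp [pow_succ, mul_assoc], one_smul]
  let q : G ⧸ C := (1 : G)
  have h0 : y • q = q := by
    change ((y * 1 : G) : G ⧸ C) = ((1 : G) : G ⧸ C)
    rw [QuotientGroup.eq]
    simp [C]
  obtain ⟨⟨a2, a6, a7, a8, a11⟩, b1, b4, b5, b7, b9, b10, b11⟩ := table (fun r => x • r) (fun r => y • r) hX hY hXY q
    _ _ _ _ _ _ _ _ _ _ _ h0 rfl rfl rfl rfl rfl rfl rfl rfl rfl rfl rfl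
  let q1 := x • q
  let q2 := x • q1
  let q3 := y • q2
  let q4 := x • q3
  let q5 := y • q3
  let q6 := x • q4
  let q7 := x • q5
  let q8 := y • q6
  let q9 := y • q8
  let q10 := x • q9
  let q11 := x • q10
  obtain ⟨S, hS, hScard⟩ : ∃ S : Finset (G ⧸ C), (∀ r, r ∈ S ↔ r ∈ [q, q1, q2, q3, q4, q5, q6, q7, q8, q9, q10, q11]) ∧
      S.card ≤ 12 :=
    ⟨_, fun r => List.mem_toFinset, List.toFinset_card_le _⟩
  have hm : q ∈ S ∧ q1 ∈ S ∧ q2 ∈ S ∧ q3 ∈ S ∧ q4 ∈ S ∧ q5 ∈ S ∧ q6 ∈ S ∧ q7 ∈ S ∧ q8 ∈ S ∧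
      q9 ∈ S ∧ q10 ∈ S ∧ q11 ∈ S := by
    refine ⟨?_, ?_, ?_, ?_, ?_, ?_, ?_, ?_, ?_, ?_, ?_, ?_⟩ <;>
      simp only [hS, List.mem_cons, true_or, or_true]
  obtain ⟨m0, m1, m2, m3, m4, m5, m6, m7, m8, m9, m10, m11⟩ := hm
  have hSx : ∀ r ∈ S, x • r ∈ S := by
    intro r hr
    simp only [hS, List.mem_cons, List.not_mem_nil, or_false] at hr
    rcases hr with rfl | rfl | rfl | rfl | rfl | rfl | rfl | rfl | rfl | rfl | rfl | rfl
    exacts [m1, m2, a2.symm ▸ m0, m4, m6, m7, a6.symm ▸ m3, a7.symm ▸ m8, a8.symm ▸ m5, m10, m11, a11.symm ▸ m9]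
  have hSy : ∀ r ∈ S, y • r ∈ S := by
    intro r hr
    simp only [hS, List.mem_cons, List.not_mem_nil, or_false] at hr
    rcases hr with rfl | rfl | rfl | rfl | rfl | rfl | rfl | rfl | rfl | rfl | rfl | rfl
    exacts [h0.symm ▸ m0, b1.symm ▸ m2, m3, m5, b4.symm ▸ m1, b5.symm ▸ m4, m8, b7.symm ▸ m6, m9,
      b9.symm ▸ m10, b10.symm ▸ m7, b11.symm ▸ m11]
  let N : Subgroup G :=
    { carrier := {g | ∀ r, g • r ∈ S ↔ r ∈ S}
      one_mem' := fun r => by rw [one_smul]
      mul_mem' := fun {a b} ha hb r => by rw [mul_smul, ha, hb]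
      inv_mem' := fun {a} ha r => by rw [← ha (a⁻¹ • r), smul_inv_smul] }
  have hNx : x ∈ N := fun r => ⟨fun h => hX r ▸ hSx _ (hSx _ h), hSx r⟩
  have hNy : y ∈ N := fun r => ⟨fun h => hY r ▸ hSy _ (hSy _ (hSy _ (hSy _ h))), hSy r⟩
  have hN : N = ⊤ := by
    rw [eq_top_iff, ← hgen, Subgroup.closure_le]
    rintro g (rfl | rfl)
    exacts [hNx, hNy]
  have hall : ∀ r : G ⧸ C, r ∈ S := by
    intro r
    obtain ⟨g, rfl⟩ := QuotientGroup.mk_surjective r
    have hg : g • q = (g : G ⧸ C) := by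
      change ((g * 1 : G) : G ⧸ C) = g
      rw [mul_one]
    rw [← hg]
    exact ((hN ▸ Subgroup.mem_top g : g ∈ N) q).mpr m0
  haveI : Fintype (G ⧸ C) := ⟨S, hall⟩
  have hi : C.index ≤ 12 := by
    rw [Subgroup.index_eq_card, Nat.card_eq_fintype_card, ← Finset.card_univ]
    exact le_trans (Finset.card_le_card fun r _ => hall r) hScard
  have hyo : orderOf y ∣ 5 := orderOf_dvd_of_pow_eq_one hy
  have hCc : Nat.card C = orderOf y := Nat.card_zpowers y
  have hCpos : 0 < Nat.card C := hCc ▸ Nat.pos_of_dvd_of_pos hyo (by norm_num)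
  haveI : Finite C := Nat.finite_of_card_ne_zero hCpos.ne'
  refine ⟨Finite.of_equiv _ (Subgroup.groupEquivQuotientProdSubgroup (s := C)).symm, ?_⟩
  rw [← C.index_mul_card]
  calc C.index * Nat.card C ≤ 12 * 5 := Nat.mul_le_mul hi (hCc ▸ Nat.le_of_dvd (by norm_num) hyo)
    _ = 60 := rfl

/-- The image of `x`. -/
def xPerm : Equiv.Perm (Fin 5) := Equiv.swap 0 1 * Equiv.swap 1 2

/-- The image of `y`. -/
def yPerm : Equiv.Perm (Fin 5) := ⟨![2, 3, 4, 0, 1], ![3, 4, 0, 1, 2], by decide, by decide⟩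

/-- The image of `x` in the alternating group. -/
def xAlt : alternatingGroup (Fin 5) := ⟨xPerm, by simp only [Equiv.Perm.mem_alternatingGroup]; decide +kernel⟩

/-- The image of `y` in the alternating group. -/
def yAlt : alternatingGroup (Fin 5) := ⟨yPerm, by simp only [Equiv.Perm.mem_alternatingGroup]; decide +kernel⟩

lemma closure_gens : Subgroup.closure {FreeGroup.of (0 : Fin 2), FreeGroup.of 1} = ⊤ := by
  rw [← FreeGroup.closure_range_of]
  congr 1
  ext g
  simp [Fin.exists_fin_two, eq_comm]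

theorem presented_equiv : Nonempty (PresentedGroup rels ≃* alternatingGroup (Fin 5)) := by
  have hrel : ∀ r ∈ rels, FreeGroup.lift ![xAlt, yAlt] r = 1 := by
    intro r hr
    simp only [rels, Set.mem_insert_iff, Set.mem_singleton_iff] at hr
    rcases hr with rfl | rfl | rfl <;>
      simp only [map_pow, map_mul, FreeGroup.lift_apply_of, Matrix.cons_val_zero, Matrix.cons_val_one] <;>
      decide +kernel
  let φ := PresentedGroup.toGroup hrel
  have h := finite_card_le (G := PresentedGroup rels) (.of 0) (.of 1)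
    (PresentedGroup.one_of_mem (x := FreeGroup.of (0 : Fin 2) ^ 3) (Or.inl rfl))
    (PresentedGroup.one_of_mem (x := FreeGroup.of (1 : Fin 2) ^ 5) (Or.inr (Or.inl rfl)))
    (PresentedGroup.one_of_mem (x := (FreeGroup.of (0 : Fin 2) * FreeGroup.of 1) ^ 2) (Or.inr (Or.inr rfl)))
    (by
      rw [eq_top_iff, ← PresentedGroup.closure_range_of rels]
      refine Subgroup.closure_mono ?_
      rintro _ ⟨i, rfl⟩
      fin_cases i <;> simp)
  haveI := h.1
  have hx : xAlt ∈ φ.range := ⟨.of 0, PresentedGroup.toGroup.of hrel⟩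
  have hy : yAlt ∈ φ.range := ⟨.of 1, PresentedGroup.toGroup.of hrel⟩
  have h60 : Nat.card (alternatingGroup (Fin 5)) = 60 := by
    rw [nat_card_alternatingGroup]; simp [Nat.factorial]
  have hdvd : 30 ∣ Nat.card φ.range := by
    have h2 : 2 ∣ Nat.card φ.range := by
      refine (dvd_of_eq (orderOf_eq_prime (p := 2) ?_ ?_).symm).trans (Subgroup.orderOf_dvd_natCard _ (mul_mem hx hy))
      <;> decide +kernel
    have h3 : 3 ∣ Nat.card φ.range := by
      refine (dvd_of_eq (orderOf_eq_prime (p := 3) ?_ ?_).symm).trans (Subgroup.orderOf_dvd_natCard _ hx)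
      <;> decide +kernel
    haveI : Fact (Nat.Prime 5) := ⟨by norm_num⟩
    have h5 : 5 ∣ Nat.card φ.range := by
      refine (dvd_of_eq (orderOf_eq_prime (p := 5) ?_ ?_).symm).trans (Subgroup.orderOf_dvd_natCard _ hy)
      <;> decide +kernel
    omega
  have htop : φ.range = ⊤ := by
    have hm := φ.range.card_mul_index
    rw [h60] at hm
    obtain ⟨c, hc⟩ := hdvd
    rw [hc, mul_assoc] at hm
    have hi : φ.range.index ∣ 2 := ⟨c, by rw [mul_comm]; omega⟩
    rcases (Nat.dvd_prime Nat.prime_two).mp hi with h | h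
    · exact Subgroup.index_eq_one.mp h
    · rcases (Subgroup.normal_of_index_eq_two h).eq_bot_or_eq_top with hb | ht
      · rw [hb, Subgroup.index_bot, h60] at h; omega
      · exact ht
  have hsurj : Function.Surjective φ := MonoidHom.range_eq_top.mp htop
  exact ⟨MulEquiv.ofBijective φ ((Nat.bijective_iff_surjective_and_card φ).mpr
    ⟨hsurj, le_antisymm (h60 ▸ h.2) (Nat.card_le_card_of_surjective φ hsurj)⟩)⟩

end CfsgLib.TwoThreeFive
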